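import Groth.Agent.Lib.AffPart16.Basic
import Groth.Agent.Lib.Flag27.BorelGeneral
import Groth.Agent.Lib.Flag27.More
import Groth.Agent.Lib.AntiAffSmooth14.Reduced

/-!
# Maximal connected solvable subgroups of arbitrary connected groups
-/

set_option autoImplicit false
set_option linter.all false
set_option backward.isDefEq.respectTransparency false
set_option maxHeartbeats 1000000
set_option synthInstance.maxHeartbeats 200000

universe u

open CategoryTheory CategoryTheory.Limits MonoidalCategory CartesianMonoidalCategory MonObj GrpObj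
open AlgebraicGeometry Topology

noncomputable section

namespace GrothLib.SolvMax16

attribute [-instance] Hom.commGroup Hom.commMonoid CommGrpObj.toIsCommMonObj

variable {k : Type u} [Field k] [IsAlgClosed k]

local notation "P0" => 𝟙_ (Over (Spec (CommRingCat.of k)))

theorem exists_pt_preimage {A Q : Over (Spec (CommRingCat.of k))} [LocallyOfFiniteType A.hom]
    [LocallyOfFiniteType Q.hom] (q : A ⟶ Q) [Surjective q.left] (w : P0 ⟶ Q) : ∃ z : P0 ⟶ A, z ≫ q = w := by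
  obtain ⟨z, -, hz⟩ := Flag27.exists_cl_lift q (E := Set.univ) isClosed_univ.isLocallyClosed (w := w)
    (by rw [Set.image_univ, Set.range_eq_univ.2 q.left.surjective]; exact Set.mem_univ _)
  exact ⟨z, hz⟩

theorem conjBy_comp {B G Q : Over (Spec (CommRingCat.of k))} [GrpObj G] [GrpObj Q] (g : P0 ⟶ G)
    (i : B ⟶ G) (q : G ⟶ Q) [IsMonHom q] : AGF.conjBy g i ≫ q = AGF.conjBy (g ≫ q) (i ≫ q) := by
  simp only [AGF.conjBy, MonObj.mul_comp, GrpObj.inv_comp, Category.assoc]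

/-- A connected group maps smoothly onto an affine group with kernel the largest anti-affine subgroup. -/
theorem exists_hull {G M : Over (Spec (CommRingCat.of k))} [GrpObj G] [GrpObj M] [Smooth G.hom] [QuasiCompact G.hom]
    [ConnectedSpace G.left] (j : M ⟶ G) [IsMonHom j] [IsClosedImmersion j.left] (hM : AntiAffine.IsAntiAffine M)
    (hMmax : ∀ (M' : Over (Spec (CommRingCat.of k))) [GrpObj M'] (j' : M' ⟶ G) [IsMonHom j'] [IsClosedImmersion j'.left],
      AntiAffine.IsAntiAffine M' → ∃ f : M' ⟶ M, f ≫ j = j') :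
    ∃ (L : Over (Spec (CommRingCat.of k))) (_ : GrpObj L) (ρ : G ⟶ L), IsAffine L.left ∧ Smooth L.hom ∧
      ConnectedSpace L.left ∧ IsMonHom ρ ∧ Smooth ρ.left ∧ Surjective ρ.left ∧ j ≫ ρ = 1 ∧
      ∃ (K : Over (Spec (CommRingCat.of k))) (_ : GrpObj K) (iK : K ⟶ G), IsMonHom iK ∧ IsClosedImmersion iK.left ∧
        Smooth K.hom ∧ ConnectedSpace K.left ∧ AlgGrp.IsKernel iK ρ ∧
        (∀ (X : Over (Spec (CommRingCat.of k))) (a : X ⟶ K) (b : X ⟶ G), (a ≫ iK) * b = b * (a ≫ iK)) ∧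
        ∃ v : K ⟶ M, v ≫ j = iK := by
  haveI : IsSeparated G.hom := GrpSchField.isSeparated G
  obtain ⟨hlM, hqM⟩ := AntMax16.props_of_mono j
  obtain ⟨K, _, iK, hiK, hiKc, hK, -, hKmax, L, _, ρ, hρ, hLa, hLl, hρf, hρs, hρl, hker⟩ := AntMax16.exists_ant G
  haveI := hiK; haveI := hiKc; haveI := hρ; haveI := hLa; haveI := hLl; haveI := hρf; haveI := hρs; haveI := hρl
  obtain ⟨hlK, hqK⟩ := AntMax16.props_of_mono iK
  haveI : Smooth K.hom := AntiAffSmooth14.smooth_of_isAntiAffine K hK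
  haveI : ConnectedSpace K.left := hK.connectedSpace
  haveI : Smooth L.hom := GrothLib.FppfSource.fppfSourceDescends_smooth ρ.left L.hom ‹_› ‹_› ‹_›
    (by rw [Over.w ρ]; infer_instance)
  haveI : ConnectedSpace L.left := ρ.left.surjective.connectedSpace ρ.left.continuous
  haveI : IsAffineHom L.hom := isAffineHom_of_isAffine _
  haveI : QuasiCompact ρ.left := by
    haveI : QuasiCompact (ρ.left ≫ L.hom) := by rw [Over.w ρ]; infer_instance
    exact QuasiCompact.of_comp _ L.hom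
  haveI : Smooth ρ.left :=
    GrothLib.AlgSp.fppfDescends_smooth ρ.left ρ.left _ _
      ((GrothLib.GrpSchField.isPullback_kernelPair hker).map (Over.forget _)).flip hρf inferInstance hρs
      (MorphismProperty.pullback_fst G.hom K.hom ‹Smooth K.hom›)
  obtain ⟨w, hw⟩ := hKmax M j hM
  obtain ⟨v, hv⟩ := hMmax K iK hK
  refine ⟨L, inferInstance, ρ, hLa, inferInstance, inferInstance, hρ, inferInstance, hρs, ?_, K, inferInstance, iK,
    hiK, hiKc, inferInstance, inferInstance, hker, fun X a b => hK.central iK a b, v, hv⟩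
  rw [← hw, Category.assoc, GrpSchField.comp_eq_one hker, MonObj.comp_one]

variable {G N M H : Over (Spec (CommRingCat.of k))} [GrpObj G] [GrpObj N] [GrpObj M] [GrpObj H]
  [Smooth G.hom] [QuasiCompact G.hom] [ConnectedSpace G.left]
  (i : N ⟶ G) [IsMonHom i] [IsClosedImmersion i.left] [Smooth N.hom] [ConnectedSpace N.left] [IsAffine N.left]
  (hN : AlgGrp.IsNormalHom i)
  (hNmax : ∀ (N' : Over (Spec (CommRingCat.of k))) [GrpObj N'] (i' : N' ⟶ G) [IsMonHom i'] [IsClosedImmersion i'.left]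
      [Smooth N'.hom] [ConnectedSpace ↥N'.left] [IsAffine N'.left], AlgGrp.IsNormalHom i' → ∃ f : N' ⟶ N, f ≫ i = i')
  (j : M ⟶ G) [IsMonHom j] [IsClosedImmersion j.left] (hM : AntiAffine.IsAntiAffine M)
  (hMmax : ∀ (M' : Over (Spec (CommRingCat.of k))) [GrpObj M'] (j' : M' ⟶ G) [IsMonHom j'] [IsClosedImmersion j'.left],
      AntiAffine.IsAntiAffine M' → ∃ f : M' ⟶ M, f ≫ j = j')

include hN hNmax hM hMmax in
/-- The structure of maximal connected solvable subgroups. -/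
theorem solvMax_structure (h : H ⟶ G) (hH : Red.IsBorelOver k h) :
    (∃ f : M ⟶ H, f ≫ h = j) ∧
    (∃ (B : Over (Spec (CommRingCat.of k))) (_ : GrpObj B) (b : B ⟶ N) (f : B ⟶ H), Red.IsBorelOver k b ∧ f ≫ h = b ≫ i ∧
        ∀ f' : M ⟶ H, f' ≫ h = j → Surjective ((f ⊗ₘ f') ≫ μ[H]).left) ∧
    (∀ (H' : Over (Spec (CommRingCat.of k))) [GrpObj H'] (h' : H' ⟶ G), Red.IsBorelOver k h' →
        ∃ (g : P0 ⟶ G) (e : H' ≅ H), e.hom ≫ h = AGF.conjBy g h') := by
  haveI : IsSeparated G.hom := GrpSchField.isSeparated G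
  obtain ⟨hlM, hqM⟩ := AntMax16.props_of_mono j
  obtain ⟨hlN, hqN⟩ := AntMax16.props_of_mono i
  obtain ⟨L, _, ρ, hLa, hLs, hLc, hρ, hρsm, hρs, hjρ, K, _, iK, hiK, hiKc, hKs, hKc, hker, hcen, v, hv⟩ :=
    exists_hull j hM hMmax
  haveI := hLa; haveI := hLs; haveI := hLc; haveI := hρ; haveI := hρsm; haveI := hρs
  haveI := hiK; haveI := hiKc; haveI := hKs; haveI := hKc
  -- the affine part maps onto the hull
  obtain ⟨Q, _, qN, hqN', hQs, hQq, hqf, hqs, -, hkN⟩ := Chev24.exists_quot i hN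
  haveI := hqN'; haveI := hQs; haveI := hQq; haveI := hqf; haveI := hqs
  haveI := Chev24.isProper_quotient i hNmax qN hkN
  obtain ⟨hgen, -⟩ := AntMax16.ant_generates i qN hkN j hM (fun K' _ _ _ u _ _ hK' => hMmax K' u hK')
  let q₀ : N ⟶ L := i ≫ ρ
  haveI : IsMonHom q₀ := inferInstanceAs (IsMonHom (i ≫ ρ))
  haveI : Surjective q₀.left := by
    have e : ((i ⊗ₘ j) ≫ μ[G]) ≫ ρ = fst N M ≫ q₀ := by
      rw [AffPart16.prod_eq, MonObj.mul_comp, Category.assoc, Category.assoc, hjρ, MonObj.comp_one, _root_.mul_one]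
    haveI := hgen
    haveI : Surjective (((i ⊗ₘ j) ≫ μ[G]).left ≫ ρ.left) := inferInstance
    haveI : Surjective ((fst N M).left ≫ q₀.left) := by
      rw [← Over.comp_left, ← e, Over.comp_left]; infer_instance
    exact Surjective.of_comp (fst N M).left q₀.left
  obtain ⟨B₀, _, iB₀, π, hB₀, sq⟩ := Flag27.exists_isPullback_of_borel ρ iK hker hcen hH
  obtain ⟨hh, hhc, hHs, hHc, hHsol, -⟩ := id hH
  haveI := hh; haveI := hhc; haveI := hHs; haveI := hHc
  haveI : Mono h := by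
    haveI : Mono h.left := inferInstance
    exact Over.mono_of_mono_left h
  -- a Borel subgroup of the affine part over the given one
  obtain ⟨B₁, _, b₁, hB₁, -⟩ := Flag27.exists_borel (G := N)
  obtain ⟨B'', _, i'', p'', hB'', hp''s, hp'', -⟩ := Flag27.exists_image_borel q₀ hB₁
  obtain ⟨g, f, hf⟩ := Flag27.borel_conj hB'' hB₀
  obtain ⟨n, hn⟩ := exists_pt_preimage q₀ g
  obtain ⟨hb₁, hb₁c, hB₁s, hB₁c, hB₁sol, -⟩ := id hB₁
  haveI := hb₁; haveI := hb₁c; haveI := hB₁s; haveI := hB₁c; haveI := hp''s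
  haveI := Flag27.isMonHom_conjBy n b₁
  haveI := Flag27.isClosedImmersion_conjBy n b₁
  let b := AGF.conjBy n b₁
  have hb : Red.IsBorelOver k b :=
    Flag27.isBorelOver_conjBy hB₁ hB₁sol (Iso.refl B₁) n (Category.id_comp _)
  let s : B₁ ⟶ B₀ := p'' ≫ f.hom
  haveI : IsIso f.hom.left := inferInstanceAs (IsIso ((Over.forget _).map f.hom))
  haveI : Surjective s.left := inferInstanceAs (Surjective (p''.left ≫ f.hom.left))
  have hs : (b ≫ i) ≫ ρ = s ≫ iB₀ := by
    rw [Category.assoc, show i ≫ ρ = q₀ from rfl, conjBy_comp, hn, ← hp'', ← Flag27.comp_conjBy', ← hf,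
      Category.assoc]
  let fB : B₁ ⟶ H := sq.lift (b ≫ i) s hs
  have hiB : (1 : M ⟶ B₀) ≫ iB₀ = 1 := by
    haveI := hB₀.1
    rw [MonObj.one_comp]
  let fM : M ⟶ H := sq.lift j 1 (by rw [hjρ, hiB])
  refine ⟨⟨fM, sq.lift_fst _ _ _⟩, ⟨B₁, inferInstance, b, fB, hb, sq.lift_fst _ _ _, fun f' hf' => ?_⟩, ?_⟩
  · -- surjectivity
    refine ⟨fun x => ?_⟩
    obtain ⟨T', c, a, hc, hca⟩ := AntMax16.exists_cover s π
    let d : T' ⟶ H := (a ≫ fB)⁻¹ * c
    have hd : (d ≫ h) ≫ ρ = 1 := by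
      rw [MonObj.mul_comp, MonObj.mul_comp, GrpObj.inv_comp, GrpObj.inv_comp, Category.assoc, Category.assoc,
        Category.assoc, sq.lift_fst_assoc, hs, sq.w, ← Category.assoc, hca, Category.assoc, inv_mul_cancel]
    obtain ⟨z, hz⟩ := GrpSchField.exists_lift_of_comp_eq_one hker (d ≫ h) hd
    have hd' : (z ≫ v) ≫ f' = d := by
      rw [← cancel_mono h, Category.assoc, hf', Category.assoc, hv, hz]
    have he : lift a (z ≫ v) ≫ (fB ⊗ₘ f') ≫ μ[H] = c := by
      rw [← Category.assoc, lift_map, ← Hom.mul_def, hd', mul_inv_cancel_left]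
    obtain ⟨t, ht⟩ := hc.surj x
    exact ⟨(lift a (z ≫ v)).left t, by rw [← ht, ← Scheme.Hom.comp_apply, ← Over.comp_left, he]⟩
  · -- conjugacy
    intro H' _ h' hH'
    obtain ⟨B₀', _, iB₀', π', hB₀', sq'⟩ := Flag27.exists_isPullback_of_borel ρ iK hker hcen hH'
    obtain ⟨g', f', hf'⟩ := Flag27.borel_conj hB₀' hB₀
    obtain ⟨x, hx⟩ := exists_pt_preimage ρ g'
    haveI : Mono h' := by
      haveI := hH'.2.1
      haveI : Mono h'.left := inferInstance
      exact Over.mono_of_mono_left h'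
    have hf'i : f'.inv ≫ iB₀' = AGF.conjBy g'⁻¹ iB₀ := by
      rw [← cancel_epi f'.hom, Iso.hom_inv_id_assoc, Flag27.comp_conjBy', hf', Flag27.conjBy_conjBy, inv_mul_cancel,
        Flag27.conjBy_one]
    have h₁ : AGF.conjBy x h' ≫ ρ = (π' ≫ f'.hom) ≫ iB₀ := by
      rw [conjBy_comp, hx, Category.assoc, hf', Flag27.comp_conjBy', sq'.w]
    have h₂ : AGF.conjBy x⁻¹ h ≫ ρ = (π ≫ f'.inv) ≫ iB₀' := by
      rw [conjBy_comp, GrpObj.inv_comp, hx, Category.assoc, hf'i, Flag27.comp_conjBy', sq.w]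
    let u : H' ⟶ H := sq.lift _ _ h₁
    let u' : H ⟶ H' := sq'.lift _ _ h₂
    have hu : u ≫ h = AGF.conjBy x h' := sq.lift_fst _ _ _
    have hu' : u' ≫ h' = AGF.conjBy x⁻¹ h := sq'.lift_fst _ _ _
    exact ⟨x, ⟨u, u', by
      rw [← cancel_mono h', Category.assoc, hu', Flag27.comp_conjBy', hu, Flag27.conjBy_conjBy, inv_mul_cancel,
        Flag27.conjBy_one, Category.id_comp], by
      rw [← cancel_mono h, Category.assoc, hu, Flag27.comp_conjBy', hu', Flag27.conjBy_conjBy, mul_inv_cancel,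
        Flag27.conjBy_one, Category.id_comp]⟩, hu⟩

end GrothLib.SolvMax16
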